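/-
Elementary abelian subgroups of order 64 with symplectic automizer: checks for the automizer.
-/
import Cfsg.Agent.As.B

set_option autoImplicit false
set_option maxRecDepth 100000

namespace CF.As
open Cfsg Subgroup CF.Comp CF.Dce CF.J4 CF.X8

/-- not in the centraliser -/
noncomputable def notH (x : ℕ) : Bool := force x fun x =>
  lall (fun σ => Bool.rec (Bool.rec true false (Nat.beq x (mkH σ 1))) false (Nat.beq x (mkH σ 0))) SL

/-- the fixed vectors of the basic reflection -/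
noncomputable def TT : List ℕ := [0, 1, 2, 3, 4, 5, 6, 7, 8, 9, 10, 11, 12, 13, 14, 15, 256, 257, 258, 259, 260,
  261, 262, 263, 264, 265, 266, 267, 268, 269, 270, 271]

/-- unipotent matrices -/
noncomputable def ua (r0 r1 r2 r3 : ℕ) : ℕ := pk 9 9 (nth 0 [1, 2, 4, 8, r0, r1, r2, r3, 256])

/-- the possible conjugates -/
noncomputable def EL : List ℕ := aC :: nth 0 RS 2 :: nth 0 RS 3 :: XL

/-- a stabiliser element in the standard frame -/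
noncomputable def stc (i : ℕ) (p : ℕ × ℕ) : ℕ := mm 9 (nth 0 GI i) (mm 9 (mkH p.1 p.2) (nth 0 GJ i))

/-- the check of one unipotent matrix -/
noncomputable def leafU (S : ℕ → List ℕ) (x : ℕ) : Bool := force x fun x =>
  Bool.rec (allFrom (fun i => Bool.rec true (inL EL (mm 9 (nth 0 GJ i) (mm 9 x (nth 0 GI i))))
    (lall (fun h => Nat.beq (mm 9 x h) (mm 9 h x)) (S i))) 0 11) true
    (lany (fun w => Nat.beq ((vm 9 (16 * w) x ^^^ 16 * w) % 256) 0) [1, 2, 3, 4, 5, 6, 7, 8, 9, 10, 11, 12, 13, 14, 15])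

/-- singular -/
noncomputable def sq0 (c : ℕ) : Bool := Nat.beq (q9 c) 0

/-- all stabiliser elements -/
noncomputable def STC : List ℕ := (List.range 22).map fun k => stc (k / 2) (nth (0x8421, 0) (nth [] ST (k / 2)) (k % 2))

theorem y1 : forceL STC (fun C => lall (fun t0 => force (16 ^^^ t0) fun r0 => Bool.rec true (lall (fun t1 =>
    force (32 ^^^ t1) fun r1 => Bool.rec true (lall (fun t2 => force (64 ^^^ t2) fun r2 => Bool.rec true
      (lall (fun t3 => force (128 ^^^ t3) fun r3 => Bool.rec true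
        (leafU (fun i => [nth 0 C (2 * i), nth 0 C (2 * i + 1)]) (ua r0 r1 r2 r3))
        (band (sq0 r3) (band (sq0 (r0 ^^^ r3)) (band (sq0 (r1 ^^^ r3)) (sq0 (r2 ^^^ r3)))))) TT)
      (band (sq0 r2) (band (sq0 (r0 ^^^ r2)) (sq0 (r1 ^^^ r2))))) TT) (band (sq0 r1) (sq0 (r0 ^^^ r1)))) TT)
    (sq0 r0)) TT) = true := by decide +kernel

/-- the check of one maximal singular subspace -/
noncomputable def leafW (L : List ℕ) : Bool := band (ndp L)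
  (force (nth 0 L 1 + 256 * nth 0 L 2 + 65536 * nth 0 L 4 + 16777216 * nth 0 L 8) fun k =>
    lany (fun p : ℕ × ℕ × ℕ × ℕ => band (Nat.beq k p.1) (band (inL SL p.2.1) (band (Nat.ble p.2.2.1 1)
      (band (Nat.ble p.2.2.2 10) (force (mm 9 (mkH p.2.1 p.2.2.1) (nth 0 GJ p.2.2.2)) fun m =>
        lall (fun s => Nat.ble (vm 9 s m % 256) 15) L))))) CL)

theorem y2 : forceL (List.range 256) (fun U => srch Nat.xor U (fun L v => lall (fun s => sq0 (Nat.xor v s)) L)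
    leafW 4 [0] 0) = true := by decide +kernel

theorem y3 : ∀ i < 11, nth 0 GI i < 2 ^ (9 * 9) ∧ nth 0 GJ i < 2 ^ (9 * 9) ∧
    mm 9 (nth 0 GI i) (nth 0 GJ i) = mo 9 ∧ mm 9 (nth 0 GJ i) (nth 0 GI i) = mo 9 ∧
    (∀ c < 512, q9 (vm 9 c (nth 0 GI i)) = q9 c) ∧ ∀ k < 2,
      inL SL (nth (0x8421, 0) (nth [] ST i) k).1 = true ∧ (nth (0x8421, 0) (nth [] ST i) k).2 < 2 ∧
      nth 0 STC (2 * i + k) = stc i (nth (0x8421, 0) (nth [] ST i) k) ∧
      ∀ j < 16, vm 9 j (nth 0 STC (2 * i + k)) % 256 < 16 := by decide +kernel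

theorem y4 : (∀ c < 512, (c % 256 < 16 ↔ vm 9 c aC = c) ∧ vm 9 c aC ^^^ c < 16 ∧ q9 (c % 256) = q9 c ∧
      (c % 256 < 16 → inL TT c = true) ∧ (c = c % 256 ∨ c = c % 256 ^^^ 256) ∧ q9 (256 ^^^ c) = q9 c ∧
      (c ^^^ 256) % 256 = c % 256) ∧
    (∀ v < 512, (∀ u < 512, q9 (v ^^^ u) = q9 u) → v = 0 ∨ v = 256) ∧
    (∀ i < 4, q9 (2 ^ (4 + i)) = 0 ∧ ∀ j < 4, q9 (2 ^ (4 + i) ^^^ 2 ^ (4 + j)) = 0) := by decide +kernel

theorem y5 : lall (fun σ => lall (fun ε => force (mkH σ ε) fun x => Bool.rec true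
    (Bool.rec (Nat.beq x aC) true (Nat.beq x (mo 9))) (lall (fun c => Nat.beq (vm 9 c x) c) [1, 2, 4, 8])) [0, 1])
    SL = true := by decide +kernel

theorem y6 : notH (wd (aC :: lapp SS [nth 0 XL 0]) [6, 0, 3, 6, 0, 3, 6]) = true ∧
    mm 9 (wd (aC :: lapp SS [nth 0 XL 0]) [6, 0, 3, 6, 0, 3, 6]) aC =
      mm 9 aC (wd (aC :: lapp SS [nth 0 XL 0]) [6, 0, 3, 6, 0, 3, 6]) ∧
    (∀ i < 5, nth (mo 9) (aC :: lapp SS [nth 0 XL 0]) (i + 1) = mkH (nth 0 SG i) 0) ∧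
    nth (mo 9) (aC :: lapp SS [nth 0 XL 0]) 6 = nth 0 XL 0 ∧ nth (mo 9) (aC :: lapp SS [nth 0 XL 0]) 0 = aC ∧
    nth 0 XL 1 = mkH (nth 0 SG 2) 0 ∧ XL = [nth 0 XL 0, nth 0 XL 1, nth 0 XL 2, nth 0 XL 3] ∧
    (∀ i < 2, notH (nth 0 XL (i + 2)) = true ∧ mm 9 (nth 0 XL (i + 2)) aC = mm 9 aC (nth 0 XL (i + 2))) ∧
    nth 0 RS 2 = nth (mo 9) RS 2 ∧ nth 0 RS 3 = nth (mo 9) RS 3 ∧
    wd RS [2, 1, 2, 1] ≠ wd RS [1, 2, 1, 2] ∧ (∀ i < 6, i ≠ 3 → wd RS (i :: AW) = wd RS (AW ++ [i])) ∧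
    wd RS (AW ++ [3] ++ AW ++ [3, 2, 3] ++ AW ++ [3]) = wd RS (AW ++ [3, 2, 3] ++ AW ++ [3, 2, 3]) ∧
    wd RS (AW ++ [2]) ≠ mo 9 := by
  decide +kernel

/-- some power is an involution -/
noncomputable def evn (c : ℕ) : Bool := force (pw (mm 9) (mo 9) c 15) fun t => force (mm 9 t t) fun u =>
  Bool.rec (Bool.rec (Nat.beq (mm 9 u u) (mo 9)) true (Nat.beq u (mo 9))) false (Nat.beq t (mo 9))

/-- conjugating words -/
noncomputable def NW : List (List ℕ) := [[0, 1, 2], [1, 2, 3], [2, 3, 4], [0, 2, 1], [2], [0, 1, 4]]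

theorem y7 : lall (fun σ => lall (fun ε => force (mkH σ ε) fun x => Bool.rec (Bool.rec
    (lany (fun w => evn (mm 9 x (mm 9 (wd SS w.reverse) (mm 9 x (wd SS w))))) NW) true (evn x)) true
      (Nat.beq x (mo 9))) [0, 1]) SL = true ∧ ∀ w ∈ NW, lets 5 w = true ∧ lets 5 w.reverse = true ∧
    mm 9 (wd SS w) (wd SS w.reverse) = mo 9 := by decide +kernel

theorem y8 : (∀ x ∈ T2, mm 9 x x = mo 9 → ∃ p ∈ DW, mm 9 x p.1 = mm 9 p.1 x) ∧
    (∀ p ∈ DW, lets 6 p.2 = true ∧ p.1 < 2 ^ (9 * 9) ∧ mm 9 (wd RS p.2) p.1 = mm 9 aC (wd RS p.2)) ∧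
    ∀ x ∈ T3 ++ T5, x = mo 9 ∨ ((List.range 512).filter fun c => vm 9 c x = c).length ≤ 32 := by decide +kernel

end CF.As
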