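/-
Weak closure of the elementary abelian group of order 512: finite checks in a Sylow 2-subgroup of the Weyl group.
-/
import Cfsg.Agent.As.B

set_option autoImplicit false
set_option maxRecDepth 100000
set_option linter.unusedSectionVars false

namespace CF.As.Sc
open Cfsg Subgroup CF.Comp CF.Dce CF.J4 CF.X8

/-- involutions with many fixed vectors -/
noncomputable def IA : List ℕ := [0x100401002020040100202, 0x1004030f31a8044fd0282, 0x100403c120a00403c120a, 0x100407004010040300401,
  0x100407ce3128044f1128a]

/-- involutions with few fixed vectors -/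
noncomputable def IB : List ℕ := [0x100401414010040141401, 0x100401804090040180409, 0x100401ce3128044d1128a, 0x100401ce5118044d11489,
  0x100403075010040750401, 0x100403084198040b80481, 0x1004030f5198044fd0481, 0x100403465010040711401,
  0x100403884118040b00489, 0x100403c140900403c1409, 0x100405075010040550401, 0x100405084198040980481,
  0x1004050f31a8044dd0282, 0x1004050f5198044dd0481, 0x100405465010040511401, 0x100405884118040900489,
  0x100405c120a00401c120a, 0x100405c140900401c1409, 0x100407002020040300202, 0x100407414010040341401,
  0x100407804090040380409, 0x100407ce5118044f11489, 0x100441102222040100202, 0x100441104411040100401,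
  0x100441555411040141401, 0x100441984499040180409, 0x1004435b232a046f51282, 0x1004439633a2046f9028a,
  0x100443fd32aa0403c120a, 0x100443fd54990403c1409, 0x1004457b232a046d51282, 0x100445b633a2046d9028a,
  0x100445dd32aa0401c120a, 0x100445dd54990401c1409, 0x100447302222040300202, 0x100447304411040300401,
  0x100447755411040341401, 0x100447b84499040380409]

/-- an elementary abelian subgroup of order 16 -/
noncomputable def E0 : List ℕ := [0x100401004010040100401, 0x100401414010040141401, 0x100401804090040180409, 0x100403c140900403c1409,
  0x100405c140900401c1409, 0x100407004010040300401, 0x100407414010040341401, 0x100407804090040380409,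
  0x100441104411040100401, 0x100441555411040141401, 0x100441984499040180409, 0x100443fd54990403c1409,
  0x100445dd54990401c1409, 0x100447304411040300401, 0x100447755411040341401, 0x100447b84499040380409]

/-- its fixed vectors -/
noncomputable def D0 : List ℕ := [0, 8, 256, 264]

/-- commutators of its involutions with many fixed vectors -/
noncomputable def P0 : List (ℕ × ℕ) := [(0x100407004010040300401, 4)]

/-- an elementary abelian subgroup of order 16 -/
noncomputable def E1 : List ℕ := [0x100401002020040100202, 0x100401004010040100401, 0x100403c120a00403c120a, 0x100403c140900403c1409,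
  0x100405c120a00401c120a, 0x100405c140900401c1409, 0x100407002020040300202, 0x100407004010040300401,
  0x100441102222040100202, 0x100441104411040100401, 0x100443fd32aa0403c120a, 0x100443fd54990403c1409,
  0x100445dd32aa0401c120a, 0x100445dd54990401c1409, 0x100447302222040300202, 0x100447304411040300401]

/-- its fixed vectors -/
noncomputable def D1 : List ℕ := [0, 3, 8, 11, 256, 259, 264, 267]

/-- commutators of its involutions with many fixed vectors -/
noncomputable def P1 : List (ℕ × ℕ) := [(0x100401002020040100202, 1), (0x100403c120a00403c120a, 1), (0x100407004010040300401, 4)]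

/-- an elementary abelian subgroup of order 16 -/
noncomputable def E2 : List ℕ := [0x100401004010040100401, 0x100401ce3128044d1128a, 0x1004030f31a8044fd0282, 0x100403c140900403c1409,
  0x1004050f31a8044dd0282, 0x100405c140900401c1409, 0x100407004010040300401, 0x100407ce3128044f1128a,
  0x100441555411040141401, 0x100441984499040180409, 0x1004435b232a046f51282, 0x1004439633a2046f9028a,
  0x1004457b232a046d51282, 0x100445b633a2046d9028a, 0x100447755411040341401, 0x100447b84499040380409]

/-- its fixed vectors -/
noncomputable def D2 : List ℕ := [0, 8, 131, 139, 256, 264, 387, 395]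

/-- commutators of its involutions with many fixed vectors -/
noncomputable def P2 : List (ℕ × ℕ) := [(0x1004030f31a8044fd0282, 1), (0x100407004010040300401, 4), (0x100407ce3128044f1128a, 1)]

/-- an elementary abelian subgroup of order 16 -/
noncomputable def E3 : List ℕ := [0x100401002020040100202, 0x100401004010040100401, 0x100401ce3128044d1128a, 0x100401ce5118044d11489,
  0x1004030f31a8044fd0282, 0x1004030f5198044fd0481, 0x100403c120a00403c120a, 0x100403c140900403c1409,
  0x1004050f31a8044dd0282, 0x1004050f5198044dd0481, 0x100405c120a00401c120a, 0x100405c140900401c1409,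
  0x100407002020040300202, 0x100407004010040300401, 0x100407ce3128044f1128a, 0x100407ce5118044f11489]

/-- its fixed vectors -/
noncomputable def D3 : List ℕ := [0, 3, 8, 11, 48, 51, 56, 59, 128, 131, 136, 139, 176, 179, 184, 187, 256, 259, 264, 267, 304, 307, 312,
  315, 384, 387, 392, 395, 432, 435, 440, 443]

/-- commutators of its involutions with many fixed vectors -/
noncomputable def P3 : List (ℕ × ℕ) := [(0x100401002020040100202, 1), (0x100401002020040100202, 16), (0x100401002020040100202, 17),
  (0x1004030f31a8044fd0282, 1), (0x1004030f31a8044fd0282, 4), (0x1004030f31a8044fd0282, 5),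
  (0x100403c120a00403c120a, 1), (0x100403c120a00403c120a, 16), (0x100403c120a00403c120a, 17),
  (0x100407004010040300401, 4), (0x100407004010040300401, 64), (0x100407004010040300401, 68),
  (0x100407ce3128044f1128a, 1), (0x100407ce3128044f1128a, 4), (0x100407ce3128044f1128a, 5)]

/-- the involutions and the identity -/
noncomputable def UU : List ℕ := lapp [mo 9] (lapp IA IB)

/-- the four elementary abelian subgroups of order 16 -/
noncomputable def EE : List (List ℕ × List ℕ × List (ℕ × ℕ)) := [(E0, D0, P0), (E1, D1, P1), (E2, D2, P2), (E3, D3, P3)]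

/-- the commutator -/
noncomputable def cc (x c : ℕ) : ℕ := force c fun c => Nat.xor (vm 9 c x) c

theorem cc_eq (g : G9) (c : X9) : cc (cd g) c.v = (cm g c).v := by rw [cc, force_eq]; rfl

/-- the fixed vectors -/
noncomputable def fxl (x : ℕ) : List ℕ := (List.range 512).filter fun c => Nat.beq (vm 9 c x) c

/-- commutes with all members of the list -/
noncomputable def cmA (L : List ℕ) (v : ℕ) : Bool := force v fun v => lall (fun s => Nat.beq (mm 9 s v) (mm 9 v s)) L

/-- fixed by all members of the list -/
noncomputable def fxA (L : List ℕ) (c : ℕ) : Bool := force c fun c => lall (fun s => Nat.beq (vm 9 c s) c) L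

/-- leaf test for subgroups of index two -/
noncomputable def lf4 (L : List ℕ) : Bool := band (ndp L) (Bool.rec
  (allFrom (fun y => Bool.rec true (Nat.beq (q9 y) 0) (lall (fun f => inL L (cc f y)) E3)) 0 512) true
  (lany (fun w => Bool.rec (allFrom (fun c => inL L (cc w c)) 0 512) false (Nat.beq w (mo 9))) E3))

theorem s1 : lall (fun x => Bool.rec true (inL UU x) (Nat.beq (mm 9 x x) (mo 9))) T2 = true := by decide +kernel

theorem s2 : (∀ x ∈ IA, (fxl x).length = 128) ∧ ∀ x ∈ IB, (fxl x).length = 32 := by decide +kernel

theorem s3 : lall (fun x => lall (fun y => Bool.rec (Bool.rec true (inL IB (mm 9 x y))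
    (Nat.beq (mm 9 x y) (mm 9 y x))) true (Nat.beq x y)) IA) IA = true := by decide +kernel

theorem s4 : srch (mm 9) UU cmA (fun L => lany (fun t => lall (inL L) t.1) EE) 4 [mo 9] 0 = true := by
  decide +kernel

theorem s5 : lall (fun t : List ℕ × List ℕ × List (ℕ × ℕ) =>
    band (lall (fun v => Bool.rec true (inL t.1 v) (cmA t.1 v)) UU) (band (Nat.beq (llen t.1) 16)
    (band (allFrom (fun c => Bool.rec true (inL t.2.1 c) (fxA t.1 c)) 0 512)
    (band (lany (inL IA) t.1) (band (lall (fun p : ℕ × ℕ => band (inL t.1 p.1) (band (inL IA p.1)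
      (band (Nat.ble p.2 511) (Bool.rec true false (Nat.beq (cc p.1 p.2) 0))))) t.2.2)
    (srch Nat.xor t.2.1 (fun _ _ => true) (fun L => lany (fun p : ℕ × ℕ => inL L (cc p.1 p.2)) t.2.2) 3 [0] 0)))))) EE
    = true := by decide +kernel

theorem s6 : ∀ t ∈ EE, t.2.1.length ≤ 8 ∨ (t.1 = E3 ∧ t.2.1 = D3) := by decide +kernel

theorem s7 : D3.length = 32 ∧ (∀ c ∈ D3, c < 512 ∧ q9 c = 0) ∧ ndp D3 = true ∧ 0 ∈ D3 ∧
    (∀ c ∈ D3, ∀ d ∈ D3, c ^^^ d ∈ D3) ∧ lall (fun f => allFrom (fun c => inL D3 (cc f c)) 0 512) E3 = true ∧
    0x100407004010040300401 ∈ E3 ∧ 0x100407004010040300401 ≠ mo 9 ∧ vm 9 1 0x100407004010040300401 = 1 ∧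
    (∀ f ∈ E3, vm 9 1 f = 1 → f = mo 9 ∨ f = 0x100407004010040300401) ∧ mo 9 ∉ IA ∧
    q9 18 ≠ 0 ∧ q9 35 ≠ 0 ∧ q9 49 ≠ 0 := by decide +kernel

theorem s8 : srch Nat.xor D3 (fun _ _ => true) lf4 4 [0] 0 = true := by decide +kernel

end CF.As.Sc
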